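/-
Twisting an induced character by linear characters.
-/
import Cfsg.Agent.Lib.CharTheory.Gallagher
import Cfsg.Agent.Lib.CharTheory.More
import Cfsg.Agent.Lib.CharTheory.Realizable

namespace CfsgLib.LinearTwist

open Cfsg CfsgLib.CharTheory
open scoped ComplexConjugate commutatorElement

universe u

variable {G : Type u} [Group G]

/-- A non-abelian minimal normal subgroup is perfect. -/
theorem le_commutator_of_minimal {N : Subgroup G} [hN : N.Normal]
    (hmin : ∀ M : Subgroup G, M.Normal → M ≤ N → M = ⊥ ∨ M = N) (hna : ¬ IsMulCommutative ↥N) :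
    N ≤ commutator G := by
  have hle : ⁅N, N⁆ ≤ N := Subgroup.commutator_le_self N
  rcases hmin ⁅N, N⁆ inferInstance hle with h | h
  · refine absurd ⟨⟨fun a b => Subtype.ext ?_⟩⟩ hna
    have h1 : ⁅(a : G), (b : G)⁆ ∈ (⊥ : Subgroup G) := h ▸ Subgroup.commutator_mem_commutator a.2 b.2
    rw [Subgroup.mem_bot] at h1
    exact commutatorElement_eq_one_iff_commute.mp h1
  · calc N = ⁅N, N⁆ := h.symm
      _ ≤ commutator G := Subgroup.commutator_mono le_top le_top

variable [Fintype G]

/-- Linear characters trivial on a subgroup are no more than its index. -/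
theorem card_hom_trivial_le (I : Subgroup G) [Fintype I] (S : Finset (G →* ℂˣ))
    (hS : ∀ α ∈ S, ∀ i ∈ I, α i = 1) : S.card ≤ I.index := by
  classical
  set π := indFun I (fun _ : I => (1 : ℂ)) with hπ
  have hπc : IsCharacter G π := isCharacter_indFun I isCharacter_one
  have hdec := congrFun (eq_sum_irr (isClassFunction_char hπc)) 1
  rw [hπ, indFun_apply_one, mul_one, Finset.sum_apply, ← hπ] at hdec
  simp only [Pi.smul_apply, smul_eq_mul] at hdec
  choose a ha using fun χ : IrrCharacter G => classInner_char_nat hπc (isCharacter_of_irr χ.2)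
  choose d hd0 hd using fun χ : IrrCharacter G => irr_degree_pos χ.2
  simp only [ha, hd] at hdec
  have hdec' : I.index = ∑ χ : IrrCharacter G, a χ * d χ := by exact_mod_cast hdec
  rw [hdec']
  let F : (G →* ℂˣ) → IrrCharacter G := fun α => ⟨fun g => (α g : ℂ), isIrrCharacter_linear α⟩
  have hinj : Set.InjOn F S := fun α _ β _ h =>
    MonoidHom.ext fun g => Units.ext (congrFun (congrArg Subtype.val h) g)
  rw [← Finset.card_image_of_injOn hinj, Finset.card_eq_sum_ones]
  refine le_trans (Finset.sum_le_sum fun χ hχ => ?_)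
    (Finset.sum_le_sum_of_subset (Finset.subset_univ _))
  obtain ⟨α, hα, rfl⟩ := Finset.mem_image.mp hχ
  have h1 : classInner π (F α : G → ℂ) = 1 := by
    rw [hπ, frobenius_reciprocity I _ (isClassFunction_irr (F α).2)]
    have : (fun h : I => (F α : G → ℂ) h) = fun _ => 1 := funext fun h => by
      show ((α (h : G) : ℂˣ) : ℂ) = 1
      rw [hS α hα h h.2, Units.val_one]
    rw [this]
    exact classInner_irr_self isIrrCharacter_one
  rw [ha, Nat.cast_eq_one] at h1
  rw [h1, one_mul]
  exact hd0 _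

/-- The twists of an induced character by linear characters. -/
theorem card_linear_le (N : Subgroup G) [hN : N.Normal] (hperf : N ≤ commutator G)
    {φ : N → ℂ} (hφ : IsIrrCharacter N φ) (I : Subgroup G)
    (hI : ∀ g : G, g ∈ I ↔ ∀ n n' : N, (n' : G) = g * (n : G) * g⁻¹ → φ n' = φ n)
    (hNI : N ≤ I) {ψ : I → ℂ} (hψ : IsIrrCharacter I ψ)
    (hres : ∀ n : N, ψ (Subgroup.inclusion hNI n) = φ n) (P : (G → ℂ) → Prop)
    (hP : ∀ α : G →* ℂˣ, P (fun g => (α g : ℂ)) →
      P ((fun g => (α g : ℂ)) * indFun I ψ)) :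
    Nat.card {χ : IrrCharacter G // charDegree (χ : G → ℂ) = 1 ∧ P χ} ≤
      I.index * Nat.card {χ : IrrCharacter G //
        charDegree (χ : G → ℂ) = charDegree φ * I.index ∧ P χ} := by
  classical
  have := Fintype.ofFinite N
  have := Fintype.ofFinite I
  have hT : I = inertia N φ := by
    ext g
    rw [hI, mem_inertia]
    exact ⟨fun h => funext fun n => h n _ rfl, fun h n n' e =>
      (congrArg φ (Subtype.ext e)).trans (congrFun h n)⟩
  have htriv : ∀ (α : G →* ℂˣ) (n : G), n ∈ N → α n = 1 := fun α n hn =>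
    MonoidHom.mem_ker.mp (Abelianization.commutator_subset_ker α (hperf hn))
  -- twisted extensions
  let tw : (G →* ℂˣ) → (I → ℂ) := fun α => (fun i : I => (α (i : G) : ℂ)) * ψ
  have htw : ∀ α, IsIrrCharacter I (tw α) := fun α => by
    have hψN : IsIrrCharacter (N.subgroupOf I) (fun n : N.subgroupOf I => ψ n) := by
      have : (fun n : N.subgroupOf I => ψ n) =
          fun n : N.subgroupOf I => φ ⟨((n : I) : G), Subgroup.mem_subgroupOf.mp n.2⟩ :=
        funext fun n => hres ⟨((n : I) : G), Subgroup.mem_subgroupOf.mp n.2⟩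
      rw [this]
      exact isIrr_subgroupOf N hNI hφ
    refine (gallagher (N.subgroupOf I) (isCharacter_of_irr hψ) hψN).1
      (fun i : I => (α (i : G) : ℂ)) (isIrrCharacter_linear (α.comp I.subtype)) fun n hn => ?_
    rw [htriv α n hn, Subgroup.coe_one, map_one]
  have htwres : ∀ α, classInner (fun n : N => tw α ⟨n, hNI n.2⟩) φ ≠ 0 := fun α => by
    have : (fun n : N => tw α ⟨n, hNI n.2⟩) = φ := funext fun n => by
      show (α (n : G) : ℂ) * ψ (Subgroup.inclusion hNI n) = φ n
      rw [htriv α n n.2, Units.val_one, one_mul, hres]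
    rw [this, classInner_irr_self hφ]
    exact one_ne_zero
  have hind : ∀ α : G →* ℂˣ, (fun g => (α g : ℂ)) * indFun I ψ = indFun I (tw α) := fun α => by
    rw [mul_comm, ← indFun_mul I ψ (isClassFunction_irr (isIrrCharacter_linear α))]
    congr 1
    exact mul_comm _ _
  have hirr : ∀ α : G →* ℂˣ, IsIrrCharacter G ((fun g => (α g : ℂ)) * indFun I ψ) := fun α => by
    rw [hind]
    exact (clifford_correspondence N hφ hNI hT (htw α) (htwres α)).1
  have hdeg : ∀ α : G →* ℂˣ, charDegree ((fun g => (α g : ℂ)) * indFun I ψ) =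
      charDegree φ * I.index := fun α => by
    have h1 := (charDegree_spec' (hirr α)).1
    have h2 : ψ 1 = (charDegree φ : ℂ) := by
      rw [← (charDegree_spec' hφ).1, ← hres 1, map_one]
    rw [Pi.mul_apply, map_one, Units.val_one, one_mul, indFun_apply_one, h2] at h1
    have : I.index * charDegree φ = charDegree ((fun g => (α g : ℂ)) * indFun I ψ) := by
      exact_mod_cast h1
    rw [← this, mul_comm]
  -- the map
  let toHom : {χ : IrrCharacter G // charDegree (χ : G → ℂ) = 1 ∧ P χ} → (G →* ℂˣ) := fun χ =>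
    linearEquivHom ⟨χ.1, by rw [(charDegree_spec' χ.1.2).1, χ.2.1, Nat.cast_one]⟩
  have hto : ∀ χ, (fun g => (toHom χ g : ℂ)) = (χ.1 : G → ℂ) := fun χ => by
    have h := linearEquivHom.symm_apply_apply
      ⟨χ.1, by rw [(charDegree_spec' χ.1.2).1, χ.2.1, Nat.cast_one]⟩
    exact congrArg (fun x => (x.1.1 : G → ℂ)) h
  let f : {χ : IrrCharacter G // charDegree (χ : G → ℂ) = 1 ∧ P χ} →
      {χ : IrrCharacter G // charDegree (χ : G → ℂ) = charDegree φ * I.index ∧ P χ} := fun χ =>
    ⟨⟨_, hirr (toHom χ)⟩, hdeg _, hP _ ((hto χ).symm ▸ χ.2.2)⟩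
  have := Fintype.ofFinite {χ : IrrCharacter G // charDegree (χ : G → ℂ) = 1 ∧ P χ}
  have := Fintype.ofFinite
    {χ : IrrCharacter G // charDegree (χ : G → ℂ) = charDegree φ * I.index ∧ P χ}
  rw [Nat.card_eq_fintype_card, Nat.card_eq_fintype_card, ← Finset.card_univ, ← Finset.card_univ]
  refine Finset.card_le_mul_card_image_of_maps_to (f := f) (fun x _ => Finset.mem_univ _) I.index
    fun b _ => ?_
  rcases (Finset.univ.filter fun x => f x = b).eq_empty_or_nonempty with he | ⟨χ₀, hχ₀⟩
  · rw [he]; simp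
  let Gm : {χ : IrrCharacter G // charDegree (χ : G → ℂ) = 1 ∧ P χ} → (G →* ℂˣ) := fun χ =>
    toHom χ * (toHom χ₀)⁻¹
  have hinj : Set.InjOn Gm (Finset.univ.filter fun x => f x = b : Finset _) := by
    intro x _ y _ h
    have h1 : toHom x = toHom y := mul_right_cancel h
    refine Subtype.ext (Subtype.ext ?_)
    rw [← hto x, ← hto y, h1]
  rw [← Finset.card_image_of_injOn hinj]
  refine card_hom_trivial_le I _ fun α hα i hi => ?_
  obtain ⟨χ, hχ, rfl⟩ := Finset.mem_image.mp hα
  have h1 : indFun I (tw (toHom χ)) = indFun I (tw (toHom χ₀)) := by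
    rw [← hind, ← hind]
    exact congrArg (fun x => (x.1.1 : G → ℂ))
      ((Finset.mem_filter.mp hχ).2.trans (Finset.mem_filter.mp hχ₀).2.symm)
  have h2 := clifford_correspondence_inj N hφ hNI hT (htw _) (htw _) (htwres _) (htwres _) h1
  have hψN : IsIrrCharacter (N.subgroupOf I) (fun n : N.subgroupOf I => ψ n) := by
    have : (fun n : N.subgroupOf I => ψ n) =
        fun n : N.subgroupOf I => φ ⟨((n : I) : G), Subgroup.mem_subgroupOf.mp n.2⟩ :=
      funext fun n => hres ⟨((n : I) : G), Subgroup.mem_subgroupOf.mp n.2⟩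
    rw [this]
    exact isIrr_subgroupOf N hNI hφ
  have h3 := (gallagher (N.subgroupOf I) (isCharacter_of_irr hψ) hψN).2.1
    (fun i : I => (toHom χ (i : G) : ℂ)) (fun i : I => (toHom χ₀ (i : G) : ℂ))
    (isIrrCharacter_linear ((toHom χ).comp I.subtype))
    (fun n hn => by rw [htriv _ n hn, Subgroup.coe_one, map_one])
    (isIrrCharacter_linear ((toHom χ₀).comp I.subtype))
    (fun n hn => by rw [htriv _ n hn, Subgroup.coe_one, map_one]) h2
  have h4 : toHom χ i = toHom χ₀ i := Units.ext (congrFun h3 ⟨i, hi⟩)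
  rw [MonoidHom.mul_apply, MonoidHom.inv_apply, h4, mul_inv_cancel]

open scoped Classical in
/-- A character afforded by real matrices stays so after induction. -/
theorem exists_real_induced (I : Subgroup G) [Fintype I] {m : ℕ}
    (ρ : Representation ℝ I (Fin m → ℝ)) {ψ : I → ℂ}
    (h : ∀ i : I, ((LinearMap.trace ℝ (Fin m → ℝ) (ρ i) : ℝ) : ℂ) = ψ i) :
    ∃ (n : ℕ) (R : Representation ℝ G (Fin n → ℝ)),
      ∀ g : G, ((LinearMap.trace ℝ (Fin n → ℝ) (R g) : ℝ) : ℂ) = indFun I ψ g := by
  have := Fintype.ofFinite (G ⧸ I)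
  have hmem : ∀ (g : G) (q : G ⧸ I), q.out⁻¹ * g * (g⁻¹ • q).out ∈ I := by
    intro g q
    rw [mul_assoc, ← QuotientGroup.eq, QuotientGroup.out_eq']
    have e : (((g * (g⁻¹ • q).out : G)) : G ⧸ I) = g • (((g⁻¹ • q).out : G) : G ⧸ I) := rfl
    rw [e, QuotientGroup.out_eq', smul_inv_smul]
  let c : G → G ⧸ I → I := fun g q => ⟨q.out⁻¹ * g * (g⁻¹ • q).out, hmem g q⟩
  have hc1 : ∀ q, c 1 q = 1 := fun q => Subtype.ext (by simp [c])
  have hcm : ∀ a b q, c (a * b) q = c a q * c b (a⁻¹ • q) := fun a b q => Subtype.ext (by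
    simp only [c, Subgroup.coe_mul, mul_inv_rev, mul_smul]
    group)
  let L : G → Module.End ℝ (G ⧸ I → Fin m → ℝ) := fun g =>
    { toFun := fun f q => ρ (c g q) (f (g⁻¹ • q))
      map_add' := fun f f' => funext fun q => by simp only [Pi.add_apply, map_add]
      map_smul' := fun r f => funext fun q => by simp only [Pi.smul_apply, map_smul, RingHom.id_apply] }
  let R₀ : Representation ℝ G (G ⧸ I → Fin m → ℝ) :=
    { toFun := L
      map_one' := LinearMap.ext fun f => funext fun q => by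
        show ρ (c 1 q) (f ((1 : G)⁻¹ • q)) = f q
        rw [hc1, map_one, inv_one, one_smul]
        rfl
      map_mul' := fun a b => LinearMap.ext fun f => funext fun q => by
        show ρ (c (a * b) q) (f ((a * b)⁻¹ • q)) = ρ (c a q) (ρ (c b (a⁻¹ • q)) (f (b⁻¹ • a⁻¹ • q)))
        rw [hcm, map_mul, mul_inv_rev, mul_smul]
        rfl }
  obtain ⟨n, R, hR⟩ := Realizable.real_of_rep Complex.ofRealHom R₀
  refine ⟨n, R, fun g => ?_⟩
  refine (congrFun hR g).trans ?_
  show ((LinearMap.trace ℝ _ (L g) : ℝ) : ℂ) = _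
  -- the trace
  have htr : LinearMap.trace ℝ _ (L g) =
      ∑ q : G ⧸ I, if g⁻¹ • q = q then LinearMap.trace ℝ (Fin m → ℝ) (ρ (c g q)) else 0 := by
    rw [LinearMap.trace_eq_matrix_trace ℝ
      (Pi.basis fun _ : G ⧸ I => Pi.basisFun ℝ (Fin m))]
    rw [Matrix.trace, Fintype.sum_sigma]
    refine Finset.sum_congr rfl fun q _ => ?_
    have hent : ∀ i : Fin m, LinearMap.toMatrix (Pi.basis fun _ : G ⧸ I => Pi.basisFun ℝ (Fin m))
        (Pi.basis fun _ : G ⧸ I => Pi.basisFun ℝ (Fin m)) (L g) ⟨q, i⟩ ⟨q, i⟩ =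
        if g⁻¹ • q = q then ρ (c g q) (Pi.single i 1) i else 0 := fun i => by
      rw [LinearMap.toMatrix_apply, Pi.basis_repr, Pi.basisFun_repr, Pi.basis_apply,
        Pi.basisFun_apply]
      show ρ (c g q) ((Pi.single q (Pi.single i 1) : G ⧸ I → Fin m → ℝ) (g⁻¹ • q)) i = _
      split_ifs with hq
      · rw [hq, Pi.single_eq_same]
      · rw [Pi.single_eq_of_ne hq, map_zero, Pi.zero_apply]
    simp only [Matrix.diag_apply, hent]
    split_ifs with hq
    · rw [LinearMap.trace_eq_matrix_trace ℝ (Pi.basisFun ℝ (Fin m)), Matrix.trace]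
      refine Finset.sum_congr rfl fun i _ => ?_
      rw [Matrix.diag_apply, LinearMap.toMatrix_apply, Pi.basisFun_repr, Pi.basisFun_apply]
    · exact Finset.sum_const_zero
  rw [htr]
  -- the induced function
  have hcl : IsClassFunction I ψ := by
    have hch : ∀ i, ψ i = ((ρ.character i : ℝ) : ℂ) := fun i => (h i).symm
    intro a b
    rw [hch, hch, Representation.char_conj]
  have hval : ∀ (q : G ⧸ I) (i : I), extendByZero I ψ ((q.out * i)⁻¹ * g * (q.out * i)) =
      if g⁻¹ • q = q then ψ (c g q) else 0 := by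
    intro q i
    have key : (q.out * (i : G))⁻¹ * g * (q.out * i) = (i : G)⁻¹ * (q.out⁻¹ * g * q.out) * i := by
      group
    have hiff : g⁻¹ • q = q ↔ q.out⁻¹ * g * q.out ∈ I := by
      have e : (((g * q.out : G)) : G ⧸ I) = g • ((q.out : G) : G ⧸ I) := rfl
      rw [inv_smul_eq_iff, mul_assoc, ← QuotientGroup.eq, e, QuotientGroup.out_eq']
    split_ifs with hq
    · have hcq : (c g q : G) = q.out⁻¹ * g * q.out := by simp [c, hq]
      have hm : (q.out * (i : G))⁻¹ * g * (q.out * i) = ((i⁻¹ * c g q * i⁻¹⁻¹ : I) : G) := by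
        rw [key, Subgroup.coe_mul, Subgroup.coe_mul, hcq]; simp
      rw [hm, extendByZero_coe, hcl]
    · refine extendByZero_of_not_mem _ _ fun hh => hq (hiff.mpr ?_)
      rw [key] at hh
      have := I.mul_mem (I.mul_mem i.2 hh) (I.inv_mem i.2)
      simpa [mul_assoc] using this
  let e : (G ⧸ I) × I ≃ G :=
    { toFun := fun p => p.1.out * (p.2 : G)
      invFun := fun x => ((x : G ⧸ I), ⟨((x : G ⧸ I).out)⁻¹ * x,
        QuotientGroup.eq.mp (QuotientGroup.out_eq' (x : G ⧸ I))⟩)
      left_inv := fun p => by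
        have : ((p.1.out * (p.2 : G) : G) : G ⧸ I) = p.1 := by
          rw [QuotientGroup.mk_mul_of_mem _ p.2.2, QuotientGroup.out_eq']
        refine Prod.ext this (Subtype.ext ?_)
        simp only [this]
        group
      right_inv := fun x => by simp }
  have hsum : ∑ x : G, extendByZero I ψ (x⁻¹ * g * x) =
      ∑ q : G ⧸ I, (Nat.card I : ℂ) * if g⁻¹ • q = q then ψ (c g q) else 0 := by
    rw [← e.sum_comp, Fintype.sum_prod_type]
    refine Finset.sum_congr rfl fun q _ => ?_
    refine (Finset.sum_congr rfl fun i _ => hval q i).trans ?_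
    rw [Finset.sum_const, Finset.card_univ, nsmul_eq_mul, Nat.card_eq_fintype_card]
  rw [indFun, hsum, ← Finset.mul_sum, ← mul_assoc,
    inv_mul_cancel₀ (Nat.cast_ne_zero.mpr Nat.card_pos.ne'), one_mul, Complex.ofReal_sum]
  refine Finset.sum_congr rfl fun q _ => ?_
  split_ifs
  · exact h _
  · exact Complex.ofReal_zero

end CfsgLib.LinearTwist
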